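import Mathlib
import Groth.Agent.H72.CanonDual2

/-!
Definitions for S15035 / S15012 (torsion-free modules over a one-dimensional Gorenstein local
domain as lattices in `K^n`).

* `On O K n`   : the standard lattice `O^n ⊆ K^n`.
* `dual O K n L` : the dual of `L ⊆ K^n` for the dot product, `{y | ∀ x ∈ L, x ⬝ᵥ y ∈ O}`.
* `IsLat O K n L` : `L` is a lattice: `d • O^n ⊆ L` and `d • L ⊆ O^n` for some `d ≠ 0`.
* `len A B` (from `Groth.Agent.H72.CanonDual`) is `Module.length O (B / A)`.
-/

set_option autoImplicit false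
universe u

namespace Groth.Agent.H55.TFL

variable (O : Type u) [CommRing O] (K : Type u) [Field K] [Algebra O K] (n : ℕ)

/-- `O^n ⊆ K^n`. -/
def On : Submodule O (Fin n → K) := Submodule.pi Set.univ (fun _ => (1 : Submodule O K))

/-- The dual of a submodule of `K^n` with respect to the dot product. -/
def dual (L : Submodule O (Fin n → K)) : Submodule O (Fin n → K) where
  carrier := {y | ∀ x ∈ L, x ⬝ᵥ y ∈ (1 : Submodule O K)}
  add_mem' := by
    intro y z hy hz x hx
    rw [dotProduct_add]
    exact Submodule.add_mem _ (hy x hx) (hz x hx)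
  zero_mem' := by
    intro x _
    rw [dotProduct_zero]
    exact Submodule.zero_mem _
  smul_mem' := by
    intro c y hy x hx
    rw [dotProduct_smul]
    exact Submodule.smul_mem _ _ (hy x hx)

/-- Lattices in `K^n` (sandwich formulation). -/
def IsLat (L : Submodule O (Fin n → K)) : Prop :=
  ∃ d : O, d ≠ 0 ∧ (∀ x ∈ On O K n, d • x ∈ L) ∧ (∀ x ∈ L, d • x ∈ On O K n)

variable {O K n}

theorem mem_On {x : Fin n → K} : x ∈ On O K n ↔ ∀ i, x i ∈ (1 : Submodule O K) := by
  unfold On
  simp [Submodule.mem_pi]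

theorem mem_dual {L : Submodule O (Fin n → K)} {y : Fin n → K} :
    y ∈ dual O K n L ↔ ∀ x ∈ L, x ⬝ᵥ y ∈ (1 : Submodule O K) := Iff.rfl

theorem dual_anti {A B : Submodule O (Fin n → K)} (h : A ≤ B) : dual O K n B ≤ dual O K n A :=
  fun _ hy x hx => hy x (h hx)

theorem le_dual_dual (L : Submodule O (Fin n → K)) : L ≤ dual O K n (dual O K n L) := by
  intro x hx y hy
  rw [dotProduct_comm]
  exact hy x hx

end Groth.Agent.H55.TFL
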