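import Groth.Agent.H55.TFL.Mat
import Groth.Agent.H19.TFLen
import Groth.Agent.H22.TFQ7
import Groth.Agent.H76.TFQ2
import Groth.Agent.H22.TFQ1
import Groth.Agent.S15009

/-!
Assembly for S15012.
-/

set_option autoImplicit false
set_option linter.style.haveILetI false
set_option linter.unusedSectionVars false
set_option linter.deprecated false

universe u

namespace Groth.Agent.H55.TFL

open Groth.Agent.H72.CanonDual
open Groth.Agent.H19.TFLen Groth.Agent.H22.TFQ7

section Aux

variable {O : Type u} [CommRing O] {K : Type u} [Field K] [Algebra O K] {n : ℕ}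

variable (O K n) in
/-- `Õ^n` as an `Õ`-submodule of `K^n`. -/
def OtnB : Submodule ↥(integralClosure O K) (Fin n → K) where
  carrier := {x | ∀ i, x i ∈ integralClosure O K}
  add_mem' := fun hx hy i => Subalgebra.add_mem _ (hx i) (hy i)
  zero_mem' := fun _ => Subalgebra.zero_mem _
  smul_mem' := fun a x hx i => by
    show (a : K) * x i ∈ integralClosure O K
    exact Subalgebra.mul_mem _ a.2 (hx i)

theorem mem_OtnB {x : Fin n → K} : x ∈ OtnB O K n ↔ ∀ i, x i ∈ integralClosure O K := Iff.rfl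

theorem OtnB_restrictScalars : (OtnB O K n).restrictScalars O = Otn O K n := by
  ext x
  rw [Submodule.restrictScalars_mem, mem_OtnB, mem_Otn]

theorem subalgebra_smul_def (a : ↥(integralClosure O K)) (v : Fin n → K) :
    a • v = ((a : ↥(integralClosure O K)) : K) • v := rfl

theorem map_gT_Otn (w : Fin n → (Fin n → K)) :
    (Otn O K n).map ((gT w).restrictScalars O) =
      (Submodule.span ↥(integralClosure O K) (Set.range w)).restrictScalars O := by
  ext l
  rw [Submodule.restrictScalars_mem, Submodule.mem_span_range_iff_exists_fun]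
  constructor
  · rintro ⟨y, hy, rfl⟩
    refine ⟨fun j => ⟨y j, mem_Otn.mp hy j⟩, ?_⟩
    rw [LinearMap.restrictScalars_apply, gT_apply]
    rfl
  · rintro ⟨a, rfl⟩
    refine ⟨fun j => (a j : K), mem_Otn.mpr (fun j => (a j).2), ?_⟩
    rw [LinearMap.restrictScalars_apply, gT_apply]
    rfl

theorem map_gT_On_le (w : Fin n → (Fin n → K)) (A : Submodule O (Fin n → K))
    (hw : ∀ j, w j ∈ A) : (On O K n).map ((gT w).restrictScalars O) ≤ A := by
  rintro _ ⟨y, hy, rfl⟩
  rw [LinearMap.restrictScalars_apply, gT_apply]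
  apply Submodule.sum_mem
  intro j _
  have := mem_On.mp hy j
  rw [Submodule.mem_one] at this
  obtain ⟨r, hr⟩ := this
  rw [← hr, algebraMap_smul]
  exact A.smul_mem _ (hw j)

end Aux

section LenCK

variable {O : Type u} [CommRing O] [IsDomain O] {K : Type u} [Field K] [Algebra O K]
  [IsFractionRing O K]

theorem len_CK : len (CK O K) (1 : Submodule O K) =
    Module.length O (O ⧸ ((1 : Submodule O K).colon
      (Subalgebra.toSubmodule (integralClosure O K)))) := by
  symm
  apply LinearEquiv.length_eq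
  refine Submodule.Quotient.equiv _ _ (e1 (O := O) (K := K)) ?_
  ext z
  rw [Submodule.mem_map, Submodule.mem_comap]
  constructor
  · rintro ⟨r, hr, rfl⟩
    show algebraMap O K r ∈ CK O K
    rw [mem_CK]
    refine ⟨r, ?_, rfl⟩
    intro a ha
    exact Submodule.mem_colon.mp hr a ha
  · intro hz
    have hz' : ((z : ↥(1 : Submodule O K)) : K) ∈ CK O K := hz
    obtain ⟨r, hr, hrz⟩ := mem_CK.mp hz'
    refine ⟨r, ?_, ?_⟩
    · rw [Submodule.mem_colon]
      intro a ha
      exact hr a ha
    · apply Subtype.ext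
      exact hrz

end LenCK

section Main

theorem enat_lift {x : ℕ∞} (hx : x ≠ ⊤) : ∃ k : ℕ, x = (k : ℕ∞) := by
  obtain ⟨k, hk⟩ := ENat.ne_top_iff_exists.mp hx
  exact ⟨k, hk.symm⟩

theorem main (O : Type u) [CommRing O] [IsDomain O] [LocCoh.IsGorensteinLocalRing O]
    (hdim : ringKrullDim O = 1) [IsAlgClosed (IsLocalRing.ResidueField O)] (K : Type u) [Field K]
    [Algebra O K] [IsFractionRing O K] (hfin : Module.Finite O ↥(integralClosure O K))
    (M : Type u) [AddCommGroup M] [Module O M] [Module.Finite O M] [NoZeroSMulDivisors O M]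
    (n : ℕ) (hn : Module.finrank K (TensorProduct O K M) = n) :
    ∃ M' : Submodule O (Fin n → K), Cn O K n ≤ M' ∧ M' ≤ Otn O K n ∧ Nonempty (M ≃ₗ[O] ↥M') ∧
      len (Cn O K n) M' = (n : ℕ∞) * Module.length O (O ⧸ ((1 : Submodule O K).colon
        (Subalgebra.toSubmodule (integralClosure O K)))) := by
  obtain ⟨M₁, h1, h2, ⟨e⟩⟩ := Groth.Agent.S15009.result O hdim K hfin M n hn
  have h1' : On O K n ≤ M₁ := h1
  have h2' : M₁ ≤ Otn O K n := h2
  have hO1 : (1 : O) ≠ 0 := one_ne_zero
  have hLOn := isLat_On (O := O) (K := K) (n := n) hO1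
  have hLOtn := isLat_Otn (O := O) (K := K) (n := n) hfin
  have hLCn := isLat_Cn (O := O) (K := K) (n := n) hfin
  have hL : IsLat O K n M₁ := isLat_of_between hLOn hLOtn h1' h2'
  obtain ⟨Md, hMd⟩ : ∃ Md, Md = dual O K n M₁ := ⟨_, rfl⟩
  have hLMd : IsLat O K n Md := hMd ▸ isLat_dual hL
  have hMd1 : Cn O K n ≤ Md := by
    have := dual_anti h2'
    rwa [dual_Otn, ← hMd] at this
  have hMd2 : Md ≤ On O K n := by
    have := dual_anti h1'
    rwa [dual_On, ← hMd] at this
  have hdualMd : dual O K n Md = M₁ := by rw [hMd, dual_dual hdim hL]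
  obtain ⟨hDed, hPID, hFinMax, hres⟩ :=
    Groth.Agent.H22.TFQ1.integralClosure_facts O hdim K hfin
  -- general position for `Md`
  obtain ⟨u, hu1, hu2, hu3⟩ :=
    Groth.Agent.H76.TFQ2.exists_basis_in_lattice O hdim K hfin n Md hLMd
  obtain ⟨U, hU⟩ : ∃ U : Submodule ↥(integralClosure O K) (Fin n → K),
      U = Submodule.span _ (Set.range u) := ⟨_, rfl⟩
  have hMdU : Md ≤ U.restrictScalars O := by
    intro x hx
    rw [Submodule.restrictScalars_mem, hU, hu3]
    exact Submodule.subset_span hx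
  have hUOt : U ≤ OtnB O K n := by
    rw [hU, Submodule.span_le]
    rintro _ ⟨i, rfl⟩
    exact fun j => one_le_Ot (mem_On.mp (hMd2 (hu1 i)) j)
  have hUOt' : U.restrictScalars O ≤ Otn O K n := by
    rw [← OtnB_restrictScalars]
    exact fun x hx => hUOt hx
  obtain ⟨F, hF⟩ : ∃ F, F = (On O K n).map ((gT u).restrictScalars O) := ⟨_, rfl⟩
  have hFMd : F ≤ Md := hF ▸ map_gT_On_le u Md hu1
  have hFU : len F (U.restrictScalars O) = len (On O K n) (Otn O K n) := by
    rw [hU, ← map_gT_Otn u, hF]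
    exact len_map ((gTEquiv u hu2).restrictScalars O) (On O K n) (Otn O K n)
  have hLU : IsLat O K n (U.restrictScalars O) := isLat_of_between hLMd hLOtn hMdU hUOt'
  -- the numbers
  obtain ⟨a, ha⟩ := enat_lift (len_ne_top O hdim K n Md (On O K n) hLMd hLOn)
  obtain ⟨b, hb⟩ := enat_lift (len_ne_top O hdim K n (On O K n) (Otn O K n) hLOn hLOtn)
  obtain ⟨c, hc⟩ := enat_lift (len_ne_top O hdim K n Md (U.restrictScalars O) hLMd hLU)
  obtain ⟨d, hd⟩ := enat_lift (len_ne_top O hdim K n (U.restrictScalars O) (Otn O K n) hLU hLOtn)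
  obtain ⟨f, hf⟩ := enat_lift (len_ne_top O hdim K n F Md
    (hF ▸ isLat_map ((gTEquiv u hu2)) hLOn) hLMd)
  have e1 := len_add Md (On O K n) (Otn O K n) hMd2 On_le_Otn
  have e2 := len_add Md (U.restrictScalars O) (Otn O K n) hMdU hUOt'
  have e3 := len_add F Md (U.restrictScalars O) hFMd hMdU
  rw [hFU, hb, hf, hc] at e3
  rw [ha, hb] at e1
  rw [hc, hd] at e2
  have e12 : ((a + b : ℕ) : ℕ∞) = ((c + d : ℕ) : ℕ∞) := by
    push_cast
    rw [← e1, ← e2]
  have e12' : a + b = c + d := by exact_mod_cast e12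
  have e3' : b = f + c := by exact_mod_cast e3
  have had : a ≤ d := by omega
  -- intermediate value
  obtain ⟨W, hUW, hWOt, hW⟩ := exists_between_of_len hres U (OtnB O K n) hUOt
    (by rw [OtnB_restrictScalars, hd]; exact ENat.coe_ne_top _) (d - a)
    (by rw [OtnB_restrictScalars, hd]; exact_mod_cast Nat.sub_le d a)
  have hWOt' : W.restrictScalars O ≤ Otn O K n := by
    rw [← OtnB_restrictScalars]
    exact fun x hx => hWOt hx
  have hUW' : U.restrictScalars O ≤ W.restrictScalars O := fun x hx => hUW hx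
  have hMdW : Md ≤ W.restrictScalars O := le_trans hMdU hUW'
  have hLW : IsLat O K n (W.restrictScalars O) := isLat_of_between hLMd hLOtn hMdW hWOt'
  obtain ⟨m, hm⟩ := enat_lift (len_ne_top O hdim K n Md (W.restrictScalars O) hLMd hLW)
  obtain ⟨e', he'⟩ := enat_lift
    (len_ne_top O hdim K n (W.restrictScalars O) (Otn O K n) hLW hLOtn)
  have e4 := len_add (U.restrictScalars O) (W.restrictScalars O) (Otn O K n) hUW' hWOt'
  have e5 := len_add Md (W.restrictScalars O) (Otn O K n) hMdW hWOt'
  rw [hd, hW, he'] at e4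
  rw [hm, he'] at e5
  have e4' : d = (d - a) + e' := by exact_mod_cast e4
  have e5' : ((a + b : ℕ) : ℕ∞) = ((m + e' : ℕ) : ℕ∞) := by
    push_cast
    rw [← e1, ← e5]
  have e5'' : a + b = m + e' := by exact_mod_cast e5'
  have hmb : m = b := by omega
  -- general position for `W`
  obtain ⟨w, hw1, hw2, hw3⟩ :=
    Groth.Agent.H76.TFQ2.exists_basis_in_lattice O hdim K hfin n (W.restrictScalars O) hLW
  have hw3' : Submodule.span ↥(integralClosure O K) (Set.range w) = W := by
    rw [hw3, Submodule.coe_restrictScalars, Submodule.span_eq]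
  obtain ⟨g, hg⟩ : ∃ g : (Fin n → K) ≃ₗ[K] (Fin n → K), g = gEquiv w hw2 := ⟨_, rfl⟩
  have hgapp : ∀ x, g x = gOf w x := fun x => by rw [hg]; rfl
  obtain ⟨gO, hgO⟩ : ∃ gO : (Fin n → K) →ₗ[O] (Fin n → K), gO = (gOf w).restrictScalars O :=
    ⟨_, rfl⟩
  have hgOapp : ∀ x, gO x = gOf w x := fun x => by rw [hgO]; rfl
  have hginj : Function.Injective gO := by
    intro x y hxy
    rw [hgOapp, hgOapp] at hxy
    exact gOf_injective w hw2 hxy
  have hCM' : Cn O K n ≤ M₁.map gO := by
    intro y hy
    refine ⟨g.symm y, ?_, ?_⟩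
    · rw [SetLike.mem_coe, ← hdualMd]
      intro l hl
      have hl' : l ∈ Submodule.span ↥(integralClosure O K) (Set.range w) := by
        rw [hw3']; exact hMdW hl
      obtain ⟨a', ha'⟩ := (Submodule.mem_span_range_iff_exists_fun _).mp hl'
      rw [← ha', sum_dotProduct]
      apply Submodule.sum_mem
      intro i _
      have h3 : (a' i • w i) ⬝ᵥ g.symm y = ((a' i : ↥(integralClosure O K)) : K) * y i := by
        rw [subalgebra_smul_def, smul_dotProduct, smul_eq_mul, ← gOf_apply, ← hgapp,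
          LinearEquiv.apply_symm_apply]
      rw [h3]
      exact mul_mem_one_of_mem_CK (mem_Cn.mp hy i) (a' i).2
    · rw [hgOapp, ← hgapp, LinearEquiv.apply_symm_apply]
  have hM'Ot : M₁.map gO ≤ Otn O K n := by
    rintro _ ⟨x, hx, rfl⟩
    rw [mem_Otn]
    intro i
    rw [hgOapp, gOf_apply]
    exact dot_mem_Ot (hWOt' (hw1 i)) (h2' hx)
  have hLM' : IsLat O K n (M₁.map gO) := by
    have := isLat_map (O := O) g hL
    have hgg : ((g : (Fin n → K) →ₗ[K] (Fin n → K)).restrictScalars O) = gO := by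
      apply LinearMap.ext
      intro x
      rw [hgOapp, ← hgapp]
      rfl
    rwa [hgg] at this
  refine ⟨M₁.map gO, hCM', hM'Ot, ⟨e.trans (Submodule.equivMapOfInjective gO hginj M₁)⟩, ?_⟩
  -- the length
  have hψ : ∀ A : Submodule O (Fin n → K),
      (A.comap ((gT w).restrictScalars O)).map ((gT w).restrictScalars O) = A := by
    intro A
    apply Submodule.map_comap_eq_of_surjective
    intro y
    obtain ⟨x, hx⟩ := (gTEquiv w hw2).surjective y
    exact ⟨x, hx⟩
  have hdualM' : dual O K n (M₁.map gO) = Md.comap ((gT w).restrictScalars O) := by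
    rw [hgO, dual_map_gOf, ← hMd]
  have hOtW : Otn O K n = (W.restrictScalars O).comap ((gT w).restrictScalars O) := by
    rw [← hw3', ← map_gT_Otn w]
    rw [Submodule.comap_map_eq_of_injective]
    intro x y hxy
    exact gT_injective w hw2 hxy
  have hlen1 : len (Md.comap ((gT w).restrictScalars O))
      ((W.restrictScalars O).comap ((gT w).restrictScalars O)) = len Md (W.restrictScalars O) := by
    have := len_map ((gTEquiv w hw2).restrictScalars O) (Md.comap ((gT w).restrictScalars O))
      ((W.restrictScalars O).comap ((gT w).restrictScalars O))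
    rw [← this]
    have h5 := hψ Md
    have h6 := hψ (W.restrictScalars O)
    exact congrArg₂ len h5 h6
  rw [len_dual hdim _ _ hLCn hLM' hCM', dual_Cn hdim hfin, hdualM']
  conv_lhs => rw [hOtW]
  rw [hlen1, hm, hmb, ← hb, len_dual hdim _ _ hLOn hLOtn On_le_Otn, dual_Otn, dual_On]
  have h7 := len_pi n (CK O K) (1 : Submodule O K) CK_le_one
  have h8 : len (Cn O K n) (On O K n) = n • len (CK O K) (1 : Submodule O K) := h7
  rw [h8, len_CK, nsmul_eq_mul]

end Main

end Groth.Agent.H55.TFL
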