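import Groth.Agent.H55.TFL.Std

/-!
Linear changes of coordinates `x ↦ (w_i ⬝ᵥ x)_i` and their effect on lattices and duals.
-/

set_option autoImplicit false
set_option linter.style.haveILetI false
set_option linter.unusedSectionVars false
set_option linter.deprecated false

universe u

namespace Groth.Agent.H55.TFL

open Groth.Agent.H72.CanonDual

section Mat

variable {K : Type u} [Field K] {n : ℕ}

/-- `x ↦ (w_i ⬝ᵥ x)_i`. -/
noncomputable def gOf (w : Fin n → (Fin n → K)) : (Fin n → K) →ₗ[K] (Fin n → K) :=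
  Matrix.mulVecLin (Matrix.of w)

/-- `y ↦ Σ y_j w_j`. -/
noncomputable def gT (w : Fin n → (Fin n → K)) : (Fin n → K) →ₗ[K] (Fin n → K) :=
  Matrix.vecMulLinear (Matrix.of w)

theorem gOf_apply (w : Fin n → (Fin n → K)) (x : Fin n → K) (i : Fin n) :
    gOf w x i = w i ⬝ᵥ x := rfl

theorem gT_apply (w : Fin n → (Fin n → K)) (y : Fin n → K) : gT w y = ∑ j, y j • w j := by
  show Matrix.vecMul y (Matrix.of w) = _
  rw [Matrix.vecMul_eq_sum]
  rfl

theorem dot_gOf (w : Fin n → (Fin n → K)) (x y : Fin n → K) :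
    gOf w x ⬝ᵥ y = x ⬝ᵥ gT w y := by
  rw [gT_apply, dotProduct_sum]
  unfold dotProduct
  apply Finset.sum_congr rfl
  intro i _
  rw [gOf_apply]
  simp only [dotProduct, Finset.mul_sum, Pi.smul_apply, smul_eq_mul, Finset.sum_mul]
  apply Finset.sum_congr rfl
  intro j _
  ring

theorem gT_injective (w : Fin n → (Fin n → K)) (hw : LinearIndependent K w) :
    Function.Injective (gT w) := by
  rw [← LinearMap.ker_eq_bot, LinearMap.ker_eq_bot']
  intro y hy
  rw [gT_apply] at hy
  funext j
  exact Fintype.linearIndependent_iff.mp hw y hy j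

theorem gOf_injective (w : Fin n → (Fin n → K)) (hw : LinearIndependent K w) :
    Function.Injective (gOf w) := by
  rw [← LinearMap.ker_eq_bot, LinearMap.ker_eq_bot']
  intro x hx
  have hsurj : Function.Surjective (gT w) :=
    LinearMap.injective_iff_surjective.mp (gT_injective w hw)
  funext j
  obtain ⟨y, hy⟩ := hsurj (Pi.single j 1)
  have := dot_gOf w x y
  rw [hx, zero_dotProduct, hy, dotProduct_single_one] at this
  exact this.symm

/-- `gOf w` as a linear equivalence. -/
noncomputable def gEquiv (w : Fin n → (Fin n → K)) (hw : LinearIndependent K w) :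
    (Fin n → K) ≃ₗ[K] (Fin n → K) :=
  LinearEquiv.ofBijective (gOf w)
    ⟨gOf_injective w hw, LinearMap.injective_iff_surjective.mp (gOf_injective w hw)⟩

/-- `gT w` as a linear equivalence. -/
noncomputable def gTEquiv (w : Fin n → (Fin n → K)) (hw : LinearIndependent K w) :
    (Fin n → K) ≃ₗ[K] (Fin n → K) :=
  LinearEquiv.ofBijective (gT w)
    ⟨gT_injective w hw, LinearMap.injective_iff_surjective.mp (gT_injective w hw)⟩

end Mat

section Lat

variable {O : Type u} [CommRing O] [IsDomain O] {K : Type u} [Field K] [Algebra O K]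
  [IsFractionRing O K] {n : ℕ}

/-- common denominator for a `K`-linear endomorphism -/
theorem exists_denominator (h : (Fin n → K) →ₗ[K] (Fin n → K)) :
    ∃ s : O, s ≠ 0 ∧ ∀ x ∈ On O K n, s • h x ∈ On O K n := by
  obtain ⟨b, hb⟩ := IsLocalization.exist_integer_multiples_of_finite (nonZeroDivisors O)
    (fun p : Fin n × Fin n => h (Pi.single p.1 1) p.2)
  refine ⟨b, nonZeroDivisors.ne_zero b.2, ?_⟩
  intro x hx
  rw [mem_On]
  intro i
  have hx' : x = ∑ j, x j • (Pi.single j (1 : K) : Fin n → K) := by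
    funext k
    rw [Finset.sum_apply, Finset.sum_eq_single k]
    · rw [Pi.smul_apply, Pi.single_eq_same, smul_eq_mul, mul_one]
    · intro j _ hjk
      rw [Pi.smul_apply, Pi.single_eq_of_ne (Ne.symm hjk), smul_zero]
    · intro hk; exact absurd (Finset.mem_univ k) hk
  rw [hx', map_sum, Pi.smul_apply, Finset.sum_apply, Finset.smul_sum]
  apply Submodule.sum_mem
  intro j _
  rw [map_smul, Pi.smul_apply, smul_eq_mul]
  obtain ⟨r, hr⟩ := hb (j, i)
  have hxj := mem_On.mp hx j
  rw [Submodule.mem_one] at hxj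
  obtain ⟨t, ht⟩ := hxj
  rw [Submodule.mem_one]
  refine ⟨t * r, ?_⟩
  have hr' : algebraMap O K r = algebraMap O K (b : O) * h (Pi.single j 1) i := by
    rw [hr, Algebra.smul_def]
  rw [map_mul, ht, hr', Algebra.smul_def]
  ring

theorem isLat_map (g : (Fin n → K) ≃ₗ[K] (Fin n → K)) {A : Submodule O (Fin n → K)}
    (hA : IsLat O K n A) :
    IsLat O K n (A.map ((g : (Fin n → K) →ₗ[K] (Fin n → K)).restrictScalars O)) := by
  obtain ⟨d, hd, h1, h2⟩ := hA
  obtain ⟨s, hs, hs'⟩ := exists_denominator (O := O) (g : (Fin n → K) →ₗ[K] (Fin n → K))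
  obtain ⟨t, ht, ht'⟩ := exists_denominator (O := O) (g.symm : (Fin n → K) →ₗ[K] (Fin n → K))
  have hgs : ∀ (c : O) (v : Fin n → K), g (c • v) = c • g v := fun c v => by
    rw [← algebraMap_smul K c v, map_smul, algebraMap_smul]
  refine ⟨d * s * t, mul_ne_zero (mul_ne_zero hd hs) ht, ?_, ?_⟩
  · intro x hx
    have h3 := h1 _ (ht' x hx)
    have h4 : (d * s * t) • x = g (s • d • t • g.symm x) := by
      rw [hgs, hgs, hgs, LinearEquiv.apply_symm_apply,
        mul_smul, mul_smul, smul_comm d s]
    rw [h4]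
    exact Submodule.mem_map_of_mem (A.smul_mem _ h3)
  · rintro _ ⟨a, ha, rfl⟩
    have h3 := hs' _ (h2 a ha)
    have h4 : (d * s * t) • ((g : (Fin n → K) →ₗ[K] (Fin n → K)).restrictScalars O) a =
        t • s • g (d • a) := by
      show (d * s * t) • g a = _
      rw [hgs, mul_smul, mul_smul, smul_comm d s, smul_comm d t, smul_comm s t]
    rw [h4]
    exact (On O K n).smul_mem _ h3

theorem dual_map_gOf (w : Fin n → (Fin n → K)) (A : Submodule O (Fin n → K)) :
    dual O K n (A.map ((gOf w).restrictScalars O)) =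
      (dual O K n A).comap ((gT w).restrictScalars O) := by
  ext y
  rw [mem_dual, Submodule.mem_comap, mem_dual]
  constructor
  · intro h x hx
    have := h _ (Submodule.mem_map_of_mem hx)
    rw [LinearMap.restrictScalars_apply, dot_gOf] at this
    exact this
  · rintro h _ ⟨x, hx, rfl⟩
    rw [LinearMap.restrictScalars_apply, dot_gOf]
    exact h x hx

end Lat

end Groth.Agent.H55.TFL
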