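import Groth.Agent.H55.TFL.Defs
import Groth.Agent.H71.GD3

/-!
Reflexivity `L^∨∨ = L` for lattices over a one-dimensional Gorenstein local domain, and the
resulting duality of lengths.
-/

set_option autoImplicit false
set_option linter.style.haveILetI false
set_option linter.unusedSectionVars false
set_option linter.deprecated false

universe u

namespace Groth.Agent.H55.TFL

open Groth.Agent.H72.CanonDual

section Basic

variable {O : Type u} [CommRing O] {K : Type u} [Field K] [Algebra O K] {n : ℕ}

theorem one_mem_one : (1 : K) ∈ (1 : Submodule O K) := Submodule.one_le.mp le_rfl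

theorem mul_mem_one {a b : K} (ha : a ∈ (1 : Submodule O K)) (hb : b ∈ (1 : Submodule O K)) :
    a * b ∈ (1 : Submodule O K) := by
  have := Submodule.mul_mem_mul ha hb
  rwa [mul_one] at this

theorem single_mem_On (i : Fin n) : (Pi.single i (1 : K) : Fin n → K) ∈ On O K n := by
  rw [mem_On]
  intro j
  by_cases h : j = i
  · rw [h, Pi.single_eq_same]; exact one_mem_one
  · rw [Pi.single_eq_of_ne h]; exact Submodule.zero_mem _

theorem dot_mem_one {x y : Fin n → K} (hx : x ∈ On O K n) (hy : y ∈ On O K n) :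
    x ⬝ᵥ y ∈ (1 : Submodule O K) := by
  unfold dotProduct
  apply Submodule.sum_mem
  intro i _
  exact mul_mem_one (mem_On.mp hx i) (mem_On.mp hy i)

theorem smul_dot (d : O) (x y : Fin n → K) : (d • x) ⬝ᵥ y = x ⬝ᵥ (d • y) := by
  rw [smul_dotProduct, dotProduct_smul]

theorem isLat_On (hO : (1 : O) ≠ 0) : IsLat O K n (On O K n) :=
  ⟨1, hO, fun x hx => by rwa [one_smul], fun x hx => by rwa [one_smul]⟩

theorem isLat_dual {L : Submodule O (Fin n → K)} (hL : IsLat O K n L) :
    IsLat O K n (dual O K n L) := by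
  obtain ⟨d, hd, h1, h2⟩ := hL
  refine ⟨d, hd, ?_, ?_⟩
  · intro x hx z hz
    rw [← smul_dot]
    exact dot_mem_one (h2 z hz) hx
  · intro y hy
    rw [mem_On]
    intro i
    have h3 := hy _ (h1 _ (single_mem_On (O := O) i))
    rw [smul_dotProduct, single_dotProduct, one_mul] at h3
    exact h3

theorem isLat_of_between {A Q B : Submodule O (Fin n → K)} (hA : IsLat O K n A)
    (hB : IsLat O K n B) [NoZeroDivisors O] (hAQ : A ≤ Q) (hQB : Q ≤ B) : IsLat O K n Q := by
  obtain ⟨a, ha, ha1, ha2⟩ := hA
  obtain ⟨b, hb, hb1, hb2⟩ := hB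
  refine ⟨a * b, mul_ne_zero ha hb, ?_, ?_⟩
  · intro x hx
    rw [mul_comm, mul_smul]
    exact hAQ (A.smul_mem _ (ha1 x hx))
  · intro x hx
    rw [mul_smul]
    exact (On O K n).smul_mem _ (hb2 x (hQB hx))

end Basic

section Refl

variable {O : Type u} [CommRing O] [IsDomain O] {K : Type u} [Field K] [Algebra O K]
  [IsFractionRing O K] {n : ℕ}

theorem algebraMap_inj' : Function.Injective (algebraMap O K) := IsFractionRing.injective O K

/-- `O ≃ (1 : Submodule O K)`. -/
noncomputable def e1 : O ≃ₗ[O] ↥(1 : Submodule O K) :=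
  (LinearEquiv.ofInjective (Algebra.linearMap O K) algebraMap_inj').trans
    (LinearEquiv.ofEq _ _ Submodule.one_eq_range.symm)

theorem e1_coe (r : O) : ((e1 (O := O) (K := K) r : ↥(1 : Submodule O K)) : K) = algebraMap O K r :=
  rfl

theorem e1_symm_spec (z : ↥(1 : Submodule O K)) : algebraMap O K (e1.symm z) = (z : K) := by
  rw [← e1_coe, LinearEquiv.apply_symm_apply]

/-- the functional attached to an element of the dual lattice -/
noncomputable def funOf (L : Submodule O (Fin n → K)) (y : Fin n → K) (hy : y ∈ dual O K n L) :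
    ↥L →ₗ[O] O where
  toFun x := e1.symm ⟨(x : Fin n → K) ⬝ᵥ y, hy x x.2⟩
  map_add' x x' := by
    apply algebraMap_inj' (O := O) (K := K)
    rw [map_add, e1_symm_spec, e1_symm_spec, e1_symm_spec]
    show ((x + x' : ↥L) : Fin n → K) ⬝ᵥ y = _
    rw [Submodule.coe_add, add_dotProduct]
  map_smul' c x := by
    apply algebraMap_inj' (O := O) (K := K)
    rw [RingHom.id_apply, smul_eq_mul, map_mul, e1_symm_spec, e1_symm_spec]
    show ((c • x : ↥L) : Fin n → K) ⬝ᵥ y = _
    rw [Submodule.coe_smul, smul_dotProduct, Algebra.smul_def]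

theorem funOf_spec (L : Submodule O (Fin n → K)) (y : Fin n → K) (hy : y ∈ dual O K n L)
    (x : ↥L) : algebraMap O K (funOf L y hy x) = (x : Fin n → K) ⬝ᵥ y := by
  unfold funOf
  exact e1_symm_spec _

/-- the vector representing a functional on a lattice -/
noncomputable def rep (L : Submodule O (Fin n → K)) (d : O)
    (h1 : ∀ x ∈ On O K n, d • x ∈ L) (φ : ↥L →ₗ[O] O) : Fin n → K :=
  fun i => (algebraMap O K d)⁻¹ * algebraMap O K (φ ⟨d • Pi.single i (1 : K), h1 _ (single_mem_On i)⟩)

theorem rep_spec (L : Submodule O (Fin n → K)) (d : O) (hd : d ≠ 0)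
    (h1 : ∀ x ∈ On O K n, d • x ∈ L) (h2 : ∀ x ∈ L, d • x ∈ On O K n) (φ : ↥L →ₗ[O] O) (x : ↥L) :
    algebraMap O K (φ x) = (x : Fin n → K) ⬝ᵥ rep L d h1 φ := by
  have hdK : algebraMap O K d ≠ 0 := fun h => hd (algebraMap_inj' (by rw [h, map_zero]))
  -- coordinates of `d • x`
  have hr : ∀ i, ∃ r : O, algebraMap O K r = d • (x : Fin n → K) i := by
    intro i
    have := mem_On.mp (h2 x x.2) i
    rw [Submodule.mem_one] at this
    obtain ⟨r, hr⟩ := this
    exact ⟨r, hr⟩
  choose r hr using hr
  have hsum : (d * d) • x = ∑ i, r i • (⟨d • Pi.single i (1 : K), h1 _ (single_mem_On i)⟩ : ↥L) := by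
    apply Subtype.ext
    rw [Submodule.coe_smul, Submodule.coe_sum]
    funext j
    rw [Finset.sum_apply]
    simp only [Submodule.coe_smul, Pi.smul_apply]
    rw [Finset.sum_eq_single j]
    · rw [Pi.single_eq_same, mul_smul, Algebra.smul_def (r j), hr j]
      simp only [Algebra.smul_def]
      ring
    · intro i _ hij
      rw [Pi.single_eq_of_ne (Ne.symm hij), smul_zero, smul_zero]
    · intro h; exact absurd (Finset.mem_univ j) h
  have h3 := congrArg (fun w => algebraMap O K (φ w)) hsum
  simp only [map_smul, map_sum, smul_eq_mul, map_mul] at h3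
  have h4 : (x : Fin n → K) ⬝ᵥ rep L d h1 φ =
      (algebraMap O K d * algebraMap O K d)⁻¹ *
        ∑ i, algebraMap O K (r i) *
          algebraMap O K (φ ⟨d • Pi.single i (1 : K), h1 _ (single_mem_On i)⟩) := by
    unfold dotProduct rep
    rw [Finset.mul_sum]
    apply Finset.sum_congr rfl
    intro i _
    have hsm : d • (x : Fin n → K) i = algebraMap O K d * (x : Fin n → K) i :=
      Algebra.smul_def _ _
    rw [hr i, hsm]
    field_simp
  rw [h4, ← h3]
  field_simp

theorem rep_mem_dual (L : Submodule O (Fin n → K)) (d : O) (hd : d ≠ 0)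
    (h1 : ∀ x ∈ On O K n, d • x ∈ L) (h2 : ∀ x ∈ L, d • x ∈ On O K n) (φ : ↥L →ₗ[O] O) :
    rep L d h1 φ ∈ dual O K n L := by
  intro x hx
  rw [← rep_spec L d hd h1 h2 φ ⟨x, hx⟩, Submodule.mem_one]
  exact ⟨_, rfl⟩

theorem rep_add (L : Submodule O (Fin n → K)) (d : O)
    (h1 : ∀ x ∈ On O K n, d • x ∈ L) (φ ψ : ↥L →ₗ[O] O) :
    rep L d h1 (φ + ψ) = rep L d h1 φ + rep L d h1 ψ := by
  funext i
  unfold rep
  rw [Pi.add_apply, LinearMap.add_apply, map_add, mul_add]

theorem rep_smul (L : Submodule O (Fin n → K)) (d : O)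
    (h1 : ∀ x ∈ On O K n, d • x ∈ L) (c : O) (φ : ↥L →ₗ[O] O) :
    rep L d h1 (c • φ) = c • rep L d h1 φ := by
  funext i
  unfold rep
  rw [Pi.smul_apply, LinearMap.smul_apply, smul_eq_mul, map_mul]
  set t := algebraMap O K (φ ⟨d • Pi.single i (1 : K), h1 _ (single_mem_On i)⟩) with ht
  rw [Algebra.smul_def]
  ring

theorem fg_of_isLat [IsNoetherianRing O] {L : Submodule O (Fin n → K)} (hL : IsLat O K n L) :
    L.FG := by
  obtain ⟨d, hd, h1, h2⟩ := hL
  have hdK : algebraMap O K d ≠ 0 := fun h => hd (algebraMap_inj' (by rw [h, map_zero]))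
  let F : Submodule O (Fin n → K) :=
    Submodule.span O (Set.range fun i : Fin n => (algebraMap O K d)⁻¹ • (Pi.single i (1 : K) : Fin n → K))
  haveI : IsNoetherian O F := isNoetherian_span_of_finite O (Set.finite_range _)
  have hLF : L ≤ F := by
    intro x hx
    have hr : ∀ i, ∃ r : O, algebraMap O K r = d • x i := by
      intro i
      have := mem_On.mp (h2 x hx) i
      rw [Submodule.mem_one] at this
      obtain ⟨r, hr⟩ := this
      exact ⟨r, hr⟩
    choose r hr using hr
    have hx' : x = ∑ i, r i • ((algebraMap O K d)⁻¹ • (Pi.single i (1 : K) : Fin n → K)) := by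
      funext j
      rw [Finset.sum_apply, Finset.sum_eq_single j]
      · simp only [Pi.smul_apply, Pi.single_eq_same]
        rw [Algebra.smul_def (r j), hr j, Algebra.smul_def, smul_eq_mul, mul_one]
        field_simp
      · intro i _ hij
        simp only [Pi.smul_apply]
        rw [Pi.single_eq_of_ne (Ne.symm hij), smul_zero, smul_zero]
      · intro h; exact absurd (Finset.mem_univ j) h
    rw [hx']
    apply Submodule.sum_mem
    intro i _
    exact Submodule.smul_mem _ _ (Submodule.subset_span ⟨i, rfl⟩)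
  have h3 : (Submodule.comap F.subtype L).FG := IsNoetherian.noetherian _
  have h4 := h3.map F.subtype
  rwa [Submodule.map_comap_subtype, inf_eq_right.mpr hLF] at h4

theorem noZeroSMulDivisors_sub (L : Submodule O (Fin n → K)) : NoZeroSMulDivisors O ↥L := by
  refine ⟨fun {c x} h => ?_⟩
  by_cases hc : c = 0
  · exact Or.inl hc
  · right
    have hcK : algebraMap O K c ≠ 0 := fun h0 => hc (algebraMap_inj' (by rw [h0, map_zero]))
    apply Subtype.ext
    funext i
    have h1 : (c • (x : Fin n → K)) i = 0 := by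
      have := congrArg (fun w : ↥L => (w : Fin n → K) i) h
      simpa using this
    rw [Pi.smul_apply, Algebra.smul_def] at h1
    rcases mul_eq_zero.mp h1 with h2 | h2
    · exact absurd h2 hcK
    · exact h2

theorem dual_dual [LocCoh.IsGorensteinLocalRing O] (hdim : ringKrullDim O = 1)
    {L : Submodule O (Fin n → K)} (hL : IsLat O K n L) : dual O K n (dual O K n L) = L := by
  apply le_antisymm _ (le_dual_dual L)
  intro z hz
  have hfg := fg_of_isLat hL
  obtain ⟨d, hd, h1, h2⟩ := hL
  have hdK : algebraMap O K d ≠ 0 := fun h => hd (algebraMap_inj' (by rw [h, map_zero]))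
  haveI : Module.Finite O ↥L := Module.Finite.iff_fg.mpr hfg
  haveI : NoZeroSMulDivisors O ↥L := noZeroSMulDivisors_sub L
  -- the functional `φ ↦ rep φ ⬝ᵥ z`
  let ξ : (↥L →ₗ[O] O) →ₗ[O] O :=
    { toFun := fun φ => e1.symm ⟨rep L d h1 φ ⬝ᵥ z, hz _ (rep_mem_dual L d hd h1 h2 φ)⟩
      map_add' := by
        intro φ ψ
        apply algebraMap_inj' (O := O) (K := K)
        rw [map_add, e1_symm_spec, e1_symm_spec, e1_symm_spec]
        show rep L d h1 (φ + ψ) ⬝ᵥ z = _
        rw [rep_add, add_dotProduct]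
      map_smul' := by
        intro c φ
        apply algebraMap_inj' (O := O) (K := K)
        rw [RingHom.id_apply, smul_eq_mul, map_mul, e1_symm_spec, e1_symm_spec]
        show rep L d h1 (c • φ) ⬝ᵥ z = _
        rw [rep_smul, smul_dotProduct, Algebra.smul_def] }
  have hξ : ∀ φ, algebraMap O K (ξ φ) = rep L d h1 φ ⬝ᵥ z := fun φ => e1_symm_spec _
  obtain ⟨x₀, hx₀⟩ := Groth.Agent.H71.GD.exists_eval O hdim ↥L ξ
  -- compare coordinates
  have hcoord : ∀ i, z i = (x₀ : Fin n → K) i := by
    intro i
    have hy : d • (Pi.single i (1 : K) : Fin n → K) ∈ dual O K n L := by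
      intro x hx
      rw [dotProduct_smul, dotProduct_single_one]
      exact mem_On.mp (h2 x hx) i
    have hrep : rep L d h1 (funOf L _ hy) = d • (Pi.single i (1 : K) : Fin n → K) := by
      funext j
      unfold rep
      rw [funOf_spec]
      have hsm : ∀ k : K, d • k = algebraMap O K d * k := fun k => Algebra.smul_def d k
      simp only [smul_dotProduct, single_dotProduct, one_mul, Pi.smul_apply, hsm]
      field_simp
    have h5 := hξ (funOf L _ hy)
    rw [hx₀, funOf_spec, hrep, smul_dotProduct, dotProduct_smul, single_dotProduct,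
      dotProduct_single_one, one_mul] at h5
    have h6 : algebraMap O K d * (x₀ : Fin n → K) i = algebraMap O K d * z i := by
      rw [Algebra.smul_def, Algebra.smul_def] at h5
      exact h5
    exact (mul_left_cancel₀ hdK h6).symm
  have : z = (x₀ : Fin n → K) := funext hcoord
  rw [this]
  exact x₀.2

end Refl

section LenDual

variable {O : Type u} [CommRing O] [IsDomain O] {K : Type u} [Field K] [Algebra O K]
  [IsFractionRing O K] {n : ℕ}

/-- The order anti-isomorphism `Q ↦ Q^∨` between `[A, B]` and `[B^∨, A^∨]`. -/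
noncomputable def dualIso [LocCoh.IsGorensteinLocalRing O] (hdim : ringKrullDim O = 1)
    (A B : Submodule O (Fin n → K)) (hA : IsLat O K n A) (hB : IsLat O K n B) (hAB : A ≤ B) :
    Set.Icc A B ≃o (Set.Icc (dual O K n B) (dual O K n A))ᵒᵈ where
  toFun Q := OrderDual.toDual ⟨dual O K n Q.1, dual_anti Q.2.2, dual_anti Q.2.1⟩
  invFun Q := ⟨dual O K n (OrderDual.ofDual Q).1, by
      have h := dual_anti (OrderDual.ofDual Q).2.2
      rwa [dual_dual hdim hA] at h, by
      have h := dual_anti (OrderDual.ofDual Q).2.1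
      rwa [dual_dual hdim hB] at h⟩
  left_inv := by
    rintro ⟨Q, hQ1, hQ2⟩
    apply Subtype.ext
    exact dual_dual hdim (isLat_of_between hA hB hQ1 hQ2)
  right_inv := by
    intro Q
    apply OrderDual.ofDual.injective
    apply Subtype.ext
    exact dual_dual hdim (isLat_of_between (isLat_dual hB) (isLat_dual hA)
      (OrderDual.ofDual Q).2.1 (OrderDual.ofDual Q).2.2)
  map_rel_iff' := by
    rintro ⟨Q, hQ1, hQ2⟩ ⟨Q', hQ'1, hQ'2⟩
    constructor
    · intro hle
      have h1 : dual O K n Q' ≤ dual O K n Q := hle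
      have h2 := dual_anti h1
      rwa [dual_dual hdim (isLat_of_between hA hB hQ1 hQ2),
        dual_dual hdim (isLat_of_between hA hB hQ'1 hQ'2)] at h2
    · intro hle
      have hle' : Q ≤ Q' := hle
      exact dual_anti hle'

/-- duality of lengths -/
theorem len_dual [LocCoh.IsGorensteinLocalRing O] (hdim : ringKrullDim O = 1)
    (A B : Submodule O (Fin n → K)) (hA : IsLat O K n A) (hB : IsLat O K n B) (hAB : A ≤ B) :
    len A B = len (dual O K n B) (dual O K n A) := by
  apply WithBot.coe_injective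
  rw [coe_length_quot _ _ hAB, coe_length_quot _ _ (dual_anti hAB),
    ← Order.krullDim_orderDual (α := Set.Icc (dual O K n B) (dual O K n A))]
  exact Order.krullDim_eq_of_orderIso (dualIso hdim A B hA hB hAB)

end LenDual

end Groth.Agent.H55.TFL
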