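import Groth.Agent.H55.TFL.Refl

/-!
Standard lattices `C^n ⊆ O^n ⊆ Õ^n` and their duals; linear changes of coordinates.
-/

set_option autoImplicit false
set_option linter.style.haveILetI false
set_option linter.unusedSectionVars false
set_option linter.deprecated false

universe u

namespace Groth.Agent.H55.TFL

open Groth.Agent.H72.CanonDual

section Defs

variable (O : Type u) [CommRing O] (K : Type u) [Field K] [Algebra O K] (n : ℕ)

/-- The conductor of `O` in its integral closure, as a submodule of `K`. -/
def CK : Submodule O K :=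
  ((1 : Submodule O K).colon (Subalgebra.toSubmodule (integralClosure O K))) • (1 : Submodule O K)

/-- `Õ^n ⊆ K^n`. -/
def Otn : Submodule O (Fin n → K) :=
  Submodule.pi Set.univ (fun _ => Subalgebra.toSubmodule (integralClosure O K))

/-- `C^n ⊆ K^n`. -/
def Cn : Submodule O (Fin n → K) := Submodule.pi Set.univ (fun _ => CK O K)

end Defs

section Basic

variable {O : Type u} [CommRing O] {K : Type u} [Field K] [Algebra O K] {n : ℕ}

theorem mem_CK {c : K} : c ∈ CK O K ↔
    ∃ r : O, (∀ a ∈ integralClosure O K, r • a ∈ (1 : Submodule O K)) ∧ algebraMap O K r = c := by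
  unfold CK
  rw [Submodule.one_eq_span, Submodule.mem_smul_span_singleton]
  constructor
  · rintro ⟨r, hr, rfl⟩
    refine ⟨r, ?_, by rw [Algebra.smul_def, mul_one]⟩
    intro a ha
    rw [Submodule.mem_colon] at hr
    exact hr a ha
  · rintro ⟨r, hr, rfl⟩
    refine ⟨r, ?_, by rw [Algebra.smul_def, mul_one]⟩
    rw [Submodule.mem_colon]
    intro a ha
    exact hr a ha

theorem mul_mem_one_of_mem_CK {c a : K} (hc : c ∈ CK O K) (ha : a ∈ integralClosure O K) :
    a * c ∈ (1 : Submodule O K) := by
  obtain ⟨r, hr, rfl⟩ := mem_CK.mp hc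
  have := hr a ha
  rwa [Algebra.smul_def, mul_comm] at this

theorem CK_le_one : CK O K ≤ (1 : Submodule O K) := by
  intro c hc
  have := mul_mem_one_of_mem_CK hc (Subalgebra.one_mem _)
  rwa [one_mul] at this

theorem one_le_Ot : (1 : Submodule O K) ≤ Subalgebra.toSubmodule (integralClosure O K) := by
  intro x hx
  rw [Submodule.mem_one] at hx
  obtain ⟨r, rfl⟩ := hx
  exact Subalgebra.algebraMap_mem _ r

theorem mem_Otn {x : Fin n → K} : x ∈ Otn O K n ↔ ∀ i, x i ∈ integralClosure O K := by
  unfold Otn
  simp [Submodule.mem_pi]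

theorem mem_Cn {x : Fin n → K} : x ∈ Cn O K n ↔ ∀ i, x i ∈ CK O K := by
  unfold Cn
  simp [Submodule.mem_pi]

theorem On_le_Otn : On O K n ≤ Otn O K n := by
  intro x hx
  rw [mem_Otn]
  intro i
  exact one_le_Ot (mem_On.mp hx i)

theorem Cn_le_On : Cn O K n ≤ On O K n := by
  intro x hx
  rw [mem_On]
  intro i
  exact CK_le_one (mem_Cn.mp hx i)

theorem dot_mem_Ot {x y : Fin n → K} (hx : x ∈ Otn O K n) (hy : y ∈ Otn O K n) :
    x ⬝ᵥ y ∈ integralClosure O K := by
  unfold dotProduct
  apply Subalgebra.sum_mem
  intro i _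
  exact Subalgebra.mul_mem _ (mem_Otn.mp hx i) (mem_Otn.mp hy i)

theorem dual_On : dual O K n (On O K n) = On O K n := by
  apply le_antisymm
  · intro y hy
    rw [mem_On]
    intro i
    have := hy _ (single_mem_On (O := O) i)
    rwa [single_dotProduct, one_mul] at this
  · intro y hy x hx
    exact dot_mem_one hx hy

theorem dual_Otn : dual O K n (Otn O K n) = Cn O K n := by
  apply le_antisymm
  · intro y hy
    rw [mem_Cn]
    intro i
    have h1 : ∀ a ∈ integralClosure O K, a * y i ∈ (1 : Submodule O K) := by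
      intro a ha
      have hmem : (Pi.single i a : Fin n → K) ∈ Otn O K n := by
        rw [mem_Otn]
        intro j
        by_cases h : j = i
        · rw [h, Pi.single_eq_same]; exact ha
        · rw [Pi.single_eq_of_ne h]; exact Subalgebra.zero_mem _
      have := hy _ hmem
      rwa [single_dotProduct] at this
    have h2 := h1 1 (Subalgebra.one_mem _)
    rw [one_mul, Submodule.mem_one] at h2
    obtain ⟨r, hr⟩ := h2
    rw [mem_CK]
    refine ⟨r, ?_, hr⟩
    intro a ha
    rw [Algebra.smul_def, hr, mul_comm]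
    exact h1 a ha
  · intro y hy x hx
    unfold dotProduct
    apply Submodule.sum_mem
    intro i _
    exact mul_mem_one_of_mem_CK (mem_Cn.mp hy i) (mem_Otn.mp hx i)

end Basic

section Cond

variable {O : Type u} [CommRing O] [IsDomain O] {K : Type u} [Field K] [Algebra O K]
  [IsFractionRing O K] {n : ℕ}

/-- A nonzero element of the conductor. -/
theorem exists_conductor (hfin : Module.Finite O ↥(integralClosure O K)) :
    ∃ d : O, d ≠ 0 ∧ ∀ a ∈ integralClosure O K, d • a ∈ (1 : Submodule O K) := by
  classical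
  obtain ⟨S, hS⟩ := hfin.fg_top
  obtain ⟨b, hb⟩ := IsLocalization.exist_integer_multiples_of_finset (nonZeroDivisors O)
    (S.image (fun a : ↥(integralClosure O K) => (a : K)))
  refine ⟨b, nonZeroDivisors.ne_zero b.2, ?_⟩
  intro a ha
  have hmem : (⟨a, ha⟩ : ↥(integralClosure O K)) ∈ Submodule.span O (S : Set ↥(integralClosure O K)) := by
    rw [hS]; trivial
  have key : ∀ z ∈ Submodule.span O (S : Set ↥(integralClosure O K)),
      (b : O) • (z : K) ∈ (1 : Submodule O K) := by
    intro z hz
    induction hz using Submodule.span_induction with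
    | mem z hz =>
      obtain ⟨r, hr⟩ := hb (z : K) (Finset.mem_image_of_mem _ hz)
      rw [Submodule.mem_one]
      exact ⟨r, by rw [hr]⟩
    | zero =>
      rw [ZeroMemClass.coe_zero, smul_zero]; exact Submodule.zero_mem _
    | add z w _ _ hz hw =>
      rw [Subalgebra.coe_add, smul_add]; exact Submodule.add_mem _ hz hw
    | smul c z _ hz =>
      rw [Subalgebra.coe_smul, smul_comm]; exact Submodule.smul_mem _ _ hz
  exact key _ hmem

theorem isLat_Otn (hfin : Module.Finite O ↥(integralClosure O K)) : IsLat O K n (Otn O K n) := by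
  obtain ⟨d, hd, h⟩ := exists_conductor hfin
  refine ⟨d, hd, ?_, ?_⟩
  · intro x hx
    exact (Otn O K n).smul_mem _ (On_le_Otn hx)
  · intro x hx
    rw [mem_On]
    intro i
    exact h _ (mem_Otn.mp hx i)

theorem isLat_Cn (hfin : Module.Finite O ↥(integralClosure O K)) : IsLat O K n (Cn O K n) := by
  rw [← dual_Otn]
  exact isLat_dual (isLat_Otn hfin)

theorem dual_Cn [LocCoh.IsGorensteinLocalRing O] (hdim : ringKrullDim O = 1)
    (hfin : Module.Finite O ↥(integralClosure O K)) : dual O K n (Cn O K n) = Otn O K n := by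
  rw [← dual_Otn, dual_dual hdim (isLat_Otn hfin)]

end Cond

end Groth.Agent.H55.TFL
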